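import Mathlib

set_option autoImplicit false
open scoped BigOperators
open Polynomial

namespace Groth.Agent.Lib.Helper5.CntA

/-- conversion of the subtype count into a finset count of `ℕ`-valued functions. -/
theorem card_conv (m b : ℕ) (Q : (Fin m → ℕ) → Prop) [DecidablePred Q] :
    Fintype.card {e : Fin m → Fin (b + 1) // (∀ i, 1 ≤ (e i : ℕ)) ∧ Q (fun i => (e i : ℕ))} =
      ((Fintype.piFinset fun _ : Fin m => Finset.Icc 1 b).filter fun f => Q f).card := by
  classical
  rw [Fintype.card_subtype]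
  let φ : (Fin m → Fin (b + 1)) → (Fin m → ℕ) := fun e i => (e i : ℕ)
  have hφ : Function.Injective φ := by
    intro e e' h
    funext i
    exact Fin.ext (congrFun h i)
  rw [← Finset.card_image_of_injective _ hφ]
  congr 1
  ext f
  simp only [Finset.mem_image, Finset.mem_filter, Finset.mem_univ, true_and, Fintype.mem_piFinset,
    Finset.mem_Icc]
  constructor
  · rintro ⟨e, ⟨h1, h2⟩, rfl⟩
    refine ⟨fun i => ⟨h1 i, ?_⟩, h2⟩
    have := (e i).2
    simp only [φ]
    omega
  · rintro ⟨h1, h2⟩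
    refine ⟨fun i => ⟨f i, by have := (h1 i).2; omega⟩, ⟨fun i => (h1 i).1, h2⟩, rfl⟩

/-- the polynomial `x + ... + x^h`. -/
noncomputable def aPoly (h : ℕ) : ℕ[X] := ∑ a ∈ Finset.Icc 1 h, X ^ a

theorem aPoly_pow (h m : ℕ) :
    aPoly h ^ m = ∑ f ∈ Fintype.piFinset (fun _ : Fin m => Finset.Icc 1 h), X ^ (∑ i, f i) := by
  have : aPoly h ^ m = ∏ _i : Fin m, aPoly h := by simp
  rw [this]
  unfold aPoly
  rw [Finset.prod_univ_sum]
  refine Finset.sum_congr rfl fun f _ => ?_
  rw [Finset.prod_pow_eq_pow_sum]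

theorem coeff_aPoly_pow (h m t : ℕ) :
    (aPoly h ^ m).coeff t =
      ((Fintype.piFinset fun _ : Fin m => Finset.Icc 1 h).filter fun f => ∑ i, f i = t).card := by
  rw [aPoly_pow, Polynomial.finsetSum_coeff]
  simp only [coeff_X_pow]
  rw [Finset.card_filter]
  refine Finset.sum_congr rfl fun f _ => ?_
  by_cases hf : ∑ i, f i = t
  · simp [hf]
  · rw [if_neg hf, if_neg (fun h => hf h.symm)]

theorem coeff_zero_aPoly_pow (h m : ℕ) (hm : 0 < m) : (aPoly h ^ m).coeff 0 = 0 := by
  rw [coeff_zero_eq_eval_zero, eval_pow]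
  have : eval 0 (aPoly h) = 0 := by
    unfold aPoly
    rw [eval_finsetSum]
    apply Finset.sum_eq_zero
    intro a ha
    rw [Finset.mem_Icc] at ha
    simp [eval_pow, eval_X]
    omega
  rw [this, zero_pow hm.ne']

/-- the two-variable generating polynomial. -/
noncomputable def G (h : ℕ) : ℕ[X][X] :=
  ∑ a ∈ Finset.Icc 1 (2 * h), C (X ^ a) * X ^ (if a ≤ h then 1 else 0)

theorem G_eq (h : ℕ) : G h = C (aPoly h) * X + C (X ^ h * aPoly h) := by
  unfold G
  rw [← Finset.sum_filter_add_sum_filter_not (Finset.Icc 1 (2 * h)) (fun a => a ≤ h)]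
  congr 1
  · have h1 : (Finset.Icc 1 (2 * h)).filter (fun a => a ≤ h) = Finset.Icc 1 h := by
      ext a; simp only [Finset.mem_filter, Finset.mem_Icc]; omega
    rw [h1, aPoly, map_sum, Finset.sum_mul]
    refine Finset.sum_congr rfl fun a ha => ?_
    rw [Finset.mem_Icc] at ha
    rw [if_pos ha.2, pow_one]
  · have h1 : (Finset.Icc 1 (2 * h)).filter (fun a => ¬ a ≤ h) =
        (Finset.Icc 1 h).map (addRightEmbedding h) := by
      rw [Finset.map_add_right_Icc]
      ext a; simp only [Finset.mem_filter, Finset.mem_Icc]; omega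
    rw [h1, Finset.sum_map, aPoly, Finset.mul_sum, map_sum]
    refine Finset.sum_congr rfl fun a ha => ?_
    rw [Finset.mem_Icc] at ha
    simp only [addRightEmbedding_apply]
    rw [if_neg (by omega), pow_zero, mul_one, ← pow_add, add_comm]

theorem G_pow (h n : ℕ) :
    G h ^ n = ∑ f ∈ Fintype.piFinset (fun _ : Fin n => Finset.Icc 1 (2 * h)),
      C (X ^ (∑ i, f i)) * X ^ ((Finset.univ.filter fun i => f i ≤ h).card) := by
  have : G h ^ n = ∏ _i : Fin n, G h := by simp
  rw [this]
  unfold G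
  rw [Finset.prod_univ_sum (fun _ : Fin n => Finset.Icc 1 (2 * h))
    (fun _ a => (C (X ^ a) * X ^ (if a ≤ h then 1 else 0) : ℕ[X][X]))]
  refine Finset.sum_congr rfl fun f _ => ?_
  rw [Finset.prod_mul_distrib, Finset.prod_pow_eq_pow_sum, ← map_prod, Finset.prod_pow_eq_pow_sum]
  congr 2
  rw [Finset.card_filter]

theorem coeff_G_pow (h n D s : ℕ) :
    ((G h ^ n).coeff D).coeff s =
      ((Fintype.piFinset fun _ : Fin n => Finset.Icc 1 (2 * h)).filter fun f =>
        ∑ i, f i = s ∧ (Finset.univ.filter fun i => f i ≤ h).card = D).card := by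
  rw [G_pow, Polynomial.finsetSum_coeff, Polynomial.finsetSum_coeff]
  simp only [coeff_C_mul_X_pow]
  rw [Finset.card_filter]
  refine Finset.sum_congr rfl fun f _ => ?_
  by_cases h1 : (Finset.univ.filter fun i => f i ≤ h).card = D
  · rw [if_pos h1.symm, coeff_X_pow]
    by_cases h2 : ∑ i, f i = s
    · simp [h1, h2]
    · rw [if_neg (fun h => h2 h.symm), if_neg (fun h => h2 h.1)]
  · rw [if_neg (fun h => h1 h.symm), coeff_zero, if_neg (fun h => h1 h.2)]

theorem coeff_G_pow' (h n D s : ℕ) :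
    ((G h ^ n).coeff D).coeff s =
      n.choose D * ∑ j ∈ Finset.range (s + 1),
        (aPoly h ^ D).coeff j * (aPoly h ^ (n - D)).coeff (s - j - (n - D) * h) := by
  have e : (C (aPoly h) * X + C (X ^ h * aPoly h)) ^ n =
      ∑ m ∈ Finset.range (n + 1), (C (aPoly h) * X) ^ m * C (X ^ h * aPoly h) ^ (n - m) *
        (n.choose m : ℕ[X][X]) := add_pow (C (aPoly h) * X) (C (X ^ h * aPoly h)) n
  rw [G_eq, e, Polynomial.finsetSum_coeff]
  have hterm : ∀ m ∈ Finset.range (n + 1),
      ((C (aPoly h) * X) ^ m * C (X ^ h * aPoly h) ^ (n - m) * (n.choose m : ℕ[X][X])).coeff D =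
        if D = m then aPoly h ^ m * (X ^ h * aPoly h) ^ (n - m) * (n.choose m : ℕ[X]) else 0 := by
    intro m _
    have : (C (aPoly h) * X) ^ m * C (X ^ h * aPoly h) ^ (n - m) * (n.choose m : ℕ[X][X]) =
        C (aPoly h ^ m * (X ^ h * aPoly h) ^ (n - m) * (n.choose m : ℕ[X])) * X ^ m := by
      simp only [mul_pow, map_mul, map_pow, map_natCast]
      ring
    rw [this, coeff_C_mul_X_pow]
  rw [Finset.sum_congr rfl hterm, Finset.sum_ite_eq]
  by_cases hD : D ∈ Finset.range (n + 1)
  · rw [if_pos hD]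
    have h1 : aPoly h ^ D * (X ^ h * aPoly h) ^ (n - D) * (n.choose D : ℕ[X]) =
        (n.choose D : ℕ[X]) * (aPoly h ^ D * (X ^ ((n - D) * h) * aPoly h ^ (n - D))) := by
      rw [mul_pow, ← pow_mul, mul_comm h]
      ring
    have h2 := Finset.Nat.sum_antidiagonal_eq_sum_range_succ
      (fun j k => (aPoly h ^ D).coeff j * ((X : ℕ[X]) ^ ((n - D) * h) * aPoly h ^ (n - D)).coeff k) s
    rw [h1, ← C_eq_natCast, coeff_C_mul, coeff_mul, h2]
    congr 1
    refine Finset.sum_congr rfl fun j hj => ?_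
    rw [coeff_X_pow_mul']
    split_ifs with hle
    · rfl
    · -- truncated case: both vanish
      have hpos : 0 < n - D := by
        by_contra h0
        have : n - D = 0 := by omega
        rw [this] at hle
        omega
      have : s - j - (n - D) * h = 0 := by omega
      rw [this, coeff_zero_aPoly_pow h (n - D) hpos]
  · rw [if_neg hD]
    have : n.choose D = 0 := Nat.choose_eq_zero_of_lt (by simpa using hD)
    rw [this, zero_mul, coeff_zero]

theorem card_conv' (m b : ℕ) (Q : (Fin m → ℕ) → Prop) [DecidablePred Q]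
    [inst : Fintype {e : Fin m → Fin (b + 1) // (∀ i, 1 ≤ (e i : ℕ)) ∧ Q (fun i => (e i : ℕ))}] :
    @Fintype.card _ inst =
      ((Fintype.piFinset fun _ : Fin m => Finset.Icc 1 b).filter fun f => Q f).card := by
  classical
  exact (@Fintype.card_congr' _ _ inst (Subtype.fintype _) rfl).trans (card_conv m b Q)

theorem main (p n s D : ℕ) (hp : Odd p) :
    Fintype.card {e : Fin n → Fin p // (∀ i, 1 ≤ (e i : ℕ)) ∧ ∑ i, (e i : ℕ) = s ∧
        (Finset.univ.filter fun i => 2 * (e i : ℕ) < p).card = D} =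
      n.choose D * ∑ j ∈ Finset.range (s + 1),
        Fintype.card {e : Fin D → Fin ((p + 1) / 2) // (∀ i, 1 ≤ (e i : ℕ)) ∧ ∑ i, (e i : ℕ) = j} *
          Fintype.card {e : Fin (n - D) → Fin ((p + 1) / 2) // (∀ i, 1 ≤ (e i : ℕ)) ∧ ∑ i, (e i : ℕ) = (s - j - (n - D) * ((p - 1) / 2))} := by
  obtain ⟨h, rfl⟩ := hp
  have e2 : (2 * h + 1 - 1) / 2 = h := by omega
  rw [e2]
  generalize hq : (2 * h + 1 + 1) / 2 = q
  obtain rfl : q = h + 1 := by omega
  have hp' : 2 * h + 1 = 2 * h + 1 := rfl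
  rw [card_conv' n (2 * h) (fun f => ∑ i, f i = s ∧
    (Finset.univ.filter fun i => 2 * f i < 2 * h + 1).card = D)]
  have hL : ((Fintype.piFinset fun _ : Fin n => Finset.Icc 1 (2 * h)).filter fun f =>
      ∑ i, f i = s ∧ (Finset.univ.filter fun i => 2 * f i < 2 * h + 1).card = D) =
      ((Fintype.piFinset fun _ : Fin n => Finset.Icc 1 (2 * h)).filter fun f =>
        ∑ i, f i = s ∧ (Finset.univ.filter fun i => f i ≤ h).card = D) := by
    refine Finset.filter_congr fun f _ => ?_
    have : (Finset.univ.filter fun i => 2 * f i < 2 * h + 1) =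
        (Finset.univ.filter fun i => f i ≤ h) := by
      refine Finset.filter_congr fun i _ => ?_
      omega
    rw [this]
  rw [hL, ← coeff_G_pow, coeff_G_pow']
  congr 1
  refine Finset.sum_congr rfl fun j _ => ?_
  rw [card_conv' D h (fun f => ∑ i, f i = j),
    card_conv' (n - D) h (fun f => ∑ i, f i = s - j - (n - D) * h),
    coeff_aPoly_pow, coeff_aPoly_pow]

end Groth.Agent.Lib.Helper5.CntA
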